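import Groth.Agent.SGA3UnitSec.Fibre
import Groth.Prelude.Def_AlgGrp

/-! Kernel pairs of homomorphisms of group schemes and their kernels. -/

set_option autoImplicit false
set_option backward.isDefEq.respectTransparency.types false
set_option linter.style.haveILetI false
universe u

open CategoryTheory Limits MonoidalCategory CartesianMonoidalCategory MonObj GrpObj AlgebraicGeometry

namespace Groth.Agent.SGA3UnitSec

variable {S : Scheme.{u}} {G H K : Over S} [GrpObj G] [GrpObj H] [GrpObj K]
  (u : G ⟶ H) [IsMonHom u] {i : K ⟶ G} [IsMonHom i] (hK : AlgGrp.IsKernel i u)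

omit [GrpObj K] [IsMonHom i] in
theorem diff_comp : ((pullback.fst u u)⁻¹ * pullback.snd u u) ≫ u = toUnit _ ≫ η[H] := by
  rw [MonObj.mul_comp, GrpObj.inv_comp, pullback.condition, inv_mul_cancel]
  exact Hom.one_def

/-- `(a, b) ↦ a⁻¹ b`, from the kernel pair to the kernel. -/
noncomputable def δ : pullback u u ⟶ K := hK.lift _ (toUnit _) (diff_comp u)

omit [IsMonHom i] [GrpObj K] in
theorem δ_comp : δ u hK ≫ i = (pullback.fst u u)⁻¹ * pullback.snd u u := hK.lift_fst _ _ _

include hK in
omit [GrpObj K] [IsMonHom i] [IsMonHom u] [GrpObj G] in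
theorem comp_eq_one {Z : Over S} (x : Z ⟶ K) : (x ≫ i) ≫ u = 1 := by
  rw [Category.assoc, hK.w, ← Category.assoc, toUnit_unique (x ≫ toUnit K) (toUnit Z)]
  exact Hom.one_def.symm

include hK in
omit [GrpObj K] [IsMonHom i] [IsMonHom u] [GrpObj G] in
theorem hom_ext {Z : Over S} {x y : Z ⟶ K} (h : x ≫ i = y ≫ i) : x = y :=
  hK.hom_ext h (toUnit_unique _ _)

omit [GrpObj K] [IsMonHom i] in
/-- The kernel pair is `G × K`. -/
theorem isPullback_fst : IsPullback (pullback.fst u u) (δ u hK) (toUnit G) (toUnit K) := by
  refine ⟨⟨toUnit_unique _ _⟩, ⟨PullbackCone.IsLimit.mk _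
    (fun c => pullback.lift c.fst (c.fst * (c.snd ≫ i))
      (by rw [MonObj.mul_comp, comp_eq_one u hK, _root_.mul_one])) (fun c => pullback.lift_fst _ _ _) (fun c => ?_)
    (fun c m h1 h2 => ?_)⟩⟩
  · apply hom_ext u hK
    rw [Category.assoc, δ_comp, MonObj.comp_mul, GrpObj.comp_inv, pullback.lift_fst, pullback.lift_snd,
      inv_mul_cancel_left]
  · apply pullback.hom_ext
    · rw [h1, pullback.lift_fst]
    · rw [pullback.lift_snd, ← h1, ← h2, Category.assoc, δ_comp, MonObj.comp_mul, GrpObj.comp_inv,
        mul_inv_cancel_left]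

/-- The diagonal of the kernel pair is the base change of the unit section of the kernel. -/
theorem isPullback_diag : IsPullback (pullback.diagonal u) (toUnit G) (δ u hK) η[K] := by
  have hw : pullback.diagonal u ≫ δ u hK = toUnit G ≫ η[K] := by
    apply hom_ext u hK
    rw [Category.assoc, δ_comp, MonObj.comp_mul, GrpObj.comp_inv, pullback.diagonal_fst, pullback.diagonal_snd,
      inv_mul_cancel, Category.assoc, IsMonHom.one_hom]
    exact Hom.one_def
  refine ⟨⟨hw⟩, ⟨PullbackCone.IsLimit.mk hw (fun c => c.fst ≫ pullback.fst u u) (fun c => ?_)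
    (fun c => toUnit_unique _ _) (fun c m h1 _ => ?_)⟩⟩
  · have h := congrArg (· ≫ i) c.condition
    simp only [Category.assoc, δ_comp, IsMonHom.one_hom, MonObj.comp_mul, GrpObj.comp_inv] at h
    rw [toUnit_unique c.snd (toUnit _), ← Hom.one_def, inv_mul_eq_one] at h
    apply pullback.hom_ext
    · rw [Category.assoc, pullback.diagonal_fst, Category.comp_id]
    · rw [Category.assoc, pullback.diagonal_snd, Category.comp_id, h]
  · rw [← h1, Category.assoc, pullback.diagonal_fst, Category.comp_id]

/-- The kernel pair on underlying schemes. -/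
noncomputable def eP : (pullback u u).left ≅ pullback u.left u.left :=
  ((IsPullback.of_hasPullback u u).map (Over.forget S)).isoPullback

omit [GrpObj G] [GrpObj H] [IsMonHom u] in
theorem eP_fst : (eP u).hom ≫ pullback.fst u.left u.left = (pullback.fst u u).left :=
  IsPullback.isoPullback_hom_fst _

omit [GrpObj G] [GrpObj H] [IsMonHom u] in
theorem eP_snd : (eP u).hom ≫ pullback.snd u.left u.left = (pullback.snd u u).left :=
  IsPullback.isoPullback_hom_snd _

omit [GrpObj G] [GrpObj H] [IsMonHom u] in
theorem diagonal_eq : pullback.diagonal u.left = (pullback.diagonal u).left ≫ (eP u).hom := by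
  apply pullback.hom_ext
  · rw [pullback.diagonal_fst, Category.assoc, eP_fst, ← Over.comp_left, pullback.diagonal_fst, Over.id_left]
  · rw [pullback.diagonal_snd, Category.assoc, eP_snd, ← Over.comp_left, pullback.diagonal_snd, Over.id_left]

include hK in
theorem formallyUnramified_of_unit (h : IsOpenImmersion η[K].left) : FormallyUnramified u.left := by
  haveI : IsOpenImmersion (pullback.diagonal u).left :=
    MorphismProperty.of_isPullback ((isPullback_diag u hK).map (Over.forget S)).flip h
  haveI : IsOpenImmersion (pullback.diagonal u.left) := by rw [diagonal_eq]; infer_instance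
  infer_instance

include hK in
/-- Over an open of the base where the unit section of the kernel is open, `u` is unramified. -/
theorem formallyUnramified_restrict_of_unit [LocallyOfFiniteType u.left] (U : S.Opens)
    (h : IsOpenImmersion (U.ι ≫ η[K].left)) : FormallyUnramified ((G.hom ⁻¹ᵁ U).ι ≫ u.left) := by
  have sq : IsPullback (pullback.diagonal u).left G.hom (δ u hK).left η[K].left :=
    (isPullback_diag u hK).map (Over.forget S)
  have sq2 := (isPullback_morphismRestrict G.hom U).flip.paste_horiz sq
  haveI : IsOpenImmersion ((G.hom ⁻¹ᵁ U).ι ≫ (pullback.diagonal u).left) :=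
    MorphismProperty.of_isPullback sq2.flip h
  rw [← FlatLocal.isOpenImmersion_ι_diagonal_iff, diagonal_eq, ← Category.assoc]
  infer_instance

include hK in
omit [GrpObj G] [GrpObj K] [IsMonHom u] [IsMonHom i] in
/-- The kernel is a base change of `u`. -/
theorem isPullback_kernel : IsPullback i.left K.hom u.left η[H].left := hK.map (Over.forget S)

omit [GrpObj G] in
/-- A group is the kernel of its map to the trivial group. -/
theorem isKernel_toUnit : AlgGrp.IsKernel (𝟙 G) (toUnit G) :=
  haveI : IsIso η[𝟙_ (Over S)] := ⟨toUnit _, toUnit_unique _ _, toUnit_unique _ _⟩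
  IsPullback.of_horiz_isIso_mono ⟨toUnit_unique _ _⟩

/-- A group with open unit section is unramified. -/
theorem formallyUnramified_hom_of_unit (G : Over S) [GrpObj G] (h : IsOpenImmersion η[G].left) :
    FormallyUnramified G.hom := by
  haveI : IsMonHom (𝟙 G) := inferInstance
  exact formallyUnramified_of_unit (toUnit G) isKernel_toUnit h

/-- The unit section of an unramified group is open. -/
theorem isOpenImmersion_unit (G : Over S) [GrpObj G] [FormallyUnramified G.hom] [LocallyOfFiniteType G.hom] :
    IsOpenImmersion η[G].left := by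
  have h : η[G].left ≫ G.hom = 𝟙 S := Over.w η[G]
  haveI : Etale (η[G].left ≫ G.hom) := by rw [h]; exact inferInstanceAs (Etale (𝟙 S))
  haveI := Etale.of_comp η[G].left G.hom
  haveI : Mono (η[G].left ≫ G.hom) := by rw [h]; exact inferInstanceAs (Mono (𝟙 S))
  haveI := mono_of_mono η[G].left G.hom
  exact FEtLib.isOpenImmersion_of_etale_universallyInjective η[G].left

/-- The base change of a morphism over `S` is a pullback on underlying schemes. -/
theorem isPullback_map_left {S' : Scheme.{u}} (f : S' ⟶ S) {X Y : Over S} (v : X ⟶ Y) :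
    IsPullback (pullback.fst X.hom f) ((Over.pullback f).map v).left v.left (pullback.fst Y.hom f) := by
  refine IsPullback.of_bot ?_ (pullback.lift_fst _ _ _).symm (IsPullback.of_hasPullback Y.hom f)
  rw [Over.w v, show ((Over.pullback f).map v).left ≫ pullback.snd Y.hom f = pullback.snd X.hom f from
    Over.w ((Over.pullback f).map v)]
  exact IsPullback.of_hasPullback X.hom f

/-- Unramified fibres and local finite type make a morphism unramified. -/
theorem formallyUnramified_of_fibres {X : Scheme.{u}} (f : X ⟶ S) [LocallyOfFiniteType f]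
    (h : ∀ s, FormallyUnramified (f.fiberToSpecResidueField s)) : FormallyUnramified f :=
  (FlatLocal.formallyUnramified_iff_stalkMap f).2 fun x => formallyUnramified_stalkMap_of_fibre f x (h _)

end Groth.Agent.SGA3UnitSec
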