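import Groth.Agent.SGA3UnitSec.KernelPair
import Groth.Agent.Desc19.Topology
import Groth.Agent.FlatLocal.Descent
import Groth.Agent.AlgSpLib.FppfSource
import Groth.Agent.SmoothLib.StalkCrit
import Groth.Agent.EGA43.Cons.Unramified

/-! Translating the open locus of a property of a homomorphism of group schemes. -/

set_option autoImplicit false
set_option backward.isDefEq.respectTransparency.types false
set_option linter.style.haveILetI false
universe u

open CategoryTheory Limits MonoidalCategory CartesianMonoidalCategory MonObj GrpObj AlgebraicGeometry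

namespace Groth.Agent.SGA3UnitSec

variable {S : Scheme.{u}} {G H : Over S}

/-- `u ▷ T` is a base change of `u`. -/
theorem isPullback_whisker (u : G ⟶ H) (T : Over S) :
    IsPullback (fst G T).left (u ▷ T).left u.left (fst H T).left := by
  refine IsPullback.of_bot (v₂₁ := (snd H T).left) (v₂₂ := H.hom) (h₃₁ := T.hom) ?_ ?_
    (IsPullback.of_hasPullback H.hom T.hom)
  · rw [Over.w u, ← Over.comp_left, whiskerRight_snd]
    exact IsPullback.of_hasPullback G.hom T.hom
  · rw [← Over.comp_left, ← Over.comp_left, whiskerRight_fst]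

variable [GrpObj G] [GrpObj H] (u : G ⟶ H) [IsMonHom u]

/-- Left translation of `G ⊗ T` by a `T`-point. -/
noncomputable def transl (G : Over S) [GrpObj G] {T : Over S} (c : T ⟶ G) : G ⊗ T ≅ G ⊗ T where
  hom := lift ((snd G T ≫ c) * fst G T) (snd G T)
  inv := lift ((snd G T ≫ c)⁻¹ * fst G T) (snd G T)
  hom_inv_id := by
    apply CartesianMonoidalCategory.hom_ext
    · rw [Category.assoc, lift_fst, MonObj.comp_mul, GrpObj.comp_inv, lift_snd_assoc, lift_fst, inv_mul_cancel_left,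
        Category.id_comp]
    · rw [Category.assoc, lift_snd, lift_snd, Category.id_comp]
  inv_hom_id := by
    apply CartesianMonoidalCategory.hom_ext
    · rw [Category.assoc, lift_fst, MonObj.comp_mul, lift_snd_assoc, lift_fst, mul_inv_cancel_left,
        Category.id_comp]
    · rw [Category.assoc, lift_snd, lift_snd, Category.id_comp]

theorem transl_comm {T : Over S} (c : T ⟶ G) :
    (transl G c).hom ≫ u ▷ T = u ▷ T ≫ (transl H (c ≫ u)).hom := by
  apply CartesianMonoidalCategory.hom_ext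
  · simp only [transl, Category.assoc, whiskerRight_fst, lift_fst_assoc, lift_fst, MonObj.mul_comp,
      MonObj.comp_mul, whiskerRight_snd_assoc]
  · simp only [transl, Category.assoc, whiskerRight_snd, lift_snd]

/-- If `P` holds near `σ t` then, over `T`, it holds near the translated point. -/
theorem exists_translate (P : MorphismProperty Scheme.{u}) [P.IsStableUnderBaseChange] [P.RespectsIso]
    (V : G.left.Opens) (hV : P (V.ι ≫ u.left)) {T : Over S} (c σ : T ⟶ G) (t : T.left) (ht : σ.left t ∈ V) :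
    ∃ (W : (G ⊗ T).left.Opens) (z : (G ⊗ T).left),
      P (W.ι ≫ (u ▷ T).left) ∧ z ∈ W ∧ (fst G T).left z = (c * σ).left t := by
  let L := transl G c
  let W₀ := (fst G T).left ⁻¹ᵁ V
  have h0 : P (W₀.ι ≫ (u ▷ T).left) :=
    MorphismProperty.of_isPullback ((isPullback_morphismRestrict (fst G T).left V).paste_vert (isPullback_whisker u T)) hV
  have hc : u ▷ T = L.inv ≫ u ▷ T ≫ (transl H (c ≫ u)).hom := by
    rw [← transl_comm u c, Iso.inv_hom_id_assoc]
  refine ⟨L.inv.left ⁻¹ᵁ W₀, (lift (c * σ) (𝟙 T)).left t, ?_, ?_, ?_⟩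
  · haveI : IsIso L.inv.left := ((Over.forget S).mapIso L.symm).isIso_hom
    haveI : IsIso (transl H (c ≫ u)).hom.left := ((Over.forget S).mapIso (transl H (c ≫ u))).isIso_hom
    have e : (L.inv.left ⁻¹ᵁ W₀).ι ≫ (u ▷ T).left =
        (L.inv.left ∣_ W₀) ≫ (W₀.ι ≫ (u ▷ T).left) ≫ (transl H (c ≫ u)).hom.left := by
      rw [Category.assoc, morphismRestrict_ι_assoc, ← Over.comp_left, ← Over.comp_left, ← hc]
    rw [e]
    exact (MorphismProperty.cancel_left_of_respectsIso P _ _).2 ((MorphismProperty.cancel_right_of_respectsIso P _ _).2 h0)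
  · show (fst G T).left (L.inv.left ((lift (c * σ) (𝟙 T)).left t)) ∈ V
    have e : lift (c * σ) (𝟙 T) ≫ L.inv ≫ fst G T = σ := by
      simp only [L, transl, lift_fst, MonObj.comp_mul, GrpObj.comp_inv, lift_snd_assoc, Category.id_comp, inv_mul_cancel_left]
    refine Set.mem_of_eq_of_mem ?_ ht
    exact congrArg (fun f : T ⟶ G => f.left t) e
  · exact congrArg (fun f : T ⟶ G => f.left t) (lift_fst (c * σ) (𝟙 T))

omit [GrpObj G] in
/-- The image of an open of `G ⊗ T` in `G`, with the surjection onto it. -/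
theorem exists_image (T : Over S) [UniversallyOpen T.hom] (W : (G ⊗ T).left.Opens) :
    ∃ (W₁ : G.left.Opens) (hle : W ≤ (fst G T).left ⁻¹ᵁ W₁),
      Surjective ((G ⊗ T).left.homOfLE hle ≫ (fst G T).left ∣_ W₁) ∧ ∀ x ∈ W₁, ∃ z ∈ W, (fst G T).left z = x := by
  have hopen : IsOpenMap (fst G T).left := by
    haveI : UniversallyOpen (fst G T).left :=
      MorphismProperty.of_isPullback (IsPullback.of_hasPullback G.hom T.hom).flip ‹UniversallyOpen T.hom›
    exact (fst G T).left.isOpenMap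
  refine ⟨⟨_, hopen _ W.2⟩, fun z hz => ⟨z, hz, rfl⟩, ⟨?_⟩, fun x hx => hx⟩
  rintro ⟨x, z, hz, rfl⟩
  refine ⟨⟨z, hz⟩, Subtype.ext ?_⟩
  rw [← Scheme.Opens.ι_apply, ← Scheme.Hom.comp_apply, Category.assoc, morphismRestrict_ι, Scheme.homOfLE_ι_assoc]
  rfl

theorem exists_universallyOpen_translate (V : G.left.Opens) (hV : UniversallyOpen (V.ι ≫ u.left))
    {T : Over S} [UniversallyOpen T.hom] (c σ : T ⟶ G) (t : T.left) (ht : σ.left t ∈ V) :
    ∃ W₁ : G.left.Opens, (c * σ).left t ∈ W₁ ∧ UniversallyOpen (W₁.ι ≫ u.left) := by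
  obtain ⟨W, z, hW, hz, hzt⟩ := exists_translate u @UniversallyOpen V hV c σ t ht
  obtain ⟨W₁, hle, hs, -⟩ := exists_image T W
  refine ⟨W₁, hzt ▸ hle hz, ?_⟩
  haveI := hs
  haveI : UniversallyOpen (fst H T).left :=
    MorphismProperty.of_isPullback (IsPullback.of_hasPullback H.hom T.hom).flip ‹UniversallyOpen T.hom›
  haveI : UniversallyOpen (((G ⊗ T).left.homOfLE hle ≫ (fst G T).left ∣_ W₁) ≫ W₁.ι ≫ u.left) := by
    rw [Category.assoc, morphismRestrict_ι_assoc, Scheme.homOfLE_ι_assoc, (isPullback_whisker u T).w, ← Category.assoc]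
    exact MorphismProperty.comp_mem _ _ _ hW ‹_›
  exact Groth.Agent.Desc19.universallyOpen_of_comp_surjective ((G ⊗ T).left.homOfLE hle ≫ (fst G T).left ∣_ W₁) _

/-- A property stronger than flat and finitely presented gives such a neighbourhood of the translated point. -/
theorem exists_flatFP_translate (P : MorphismProperty Scheme.{u}) [P.IsStableUnderBaseChange] [P.RespectsIso]
    (hP : ∀ ⦃X Y : Scheme.{u}⦄ (f : X ⟶ Y), P f → Flat f ∧ LocallyOfFinitePresentation f)
    (V : G.left.Opens) (hV : P (V.ι ≫ u.left))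
    {T : Over S} [Flat T.hom] [LocallyOfFinitePresentation T.hom] (c σ : T ⟶ G) (t : T.left) (ht : σ.left t ∈ V) :
    ∃ (W₁ : G.left.Opens) (W : (G ⊗ T).left.Opens), (c * σ).left t ∈ W₁ ∧
      Flat (W₁.ι ≫ u.left) ∧ LocallyOfFinitePresentation (W₁.ι ≫ u.left) ∧ P (W.ι ≫ (u ▷ T).left) ∧
      ∀ x : W₁, ∃ z : ((fst G T).left ⁻¹ᵁ W₁ : (G ⊗ T).left.Opens), ((fst G T).left ∣_ W₁) z = x ∧ z.1 ∈ W := by
  haveI : Flat (fst G T).left := MorphismProperty.of_isPullback (IsPullback.of_hasPullback G.hom T.hom).flip ‹Flat T.hom›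
  haveI : LocallyOfFinitePresentation (fst G T).left :=
    MorphismProperty.of_isPullback (IsPullback.of_hasPullback G.hom T.hom).flip ‹LocallyOfFinitePresentation T.hom›
  haveI : Flat (fst H T).left := MorphismProperty.of_isPullback (IsPullback.of_hasPullback H.hom T.hom).flip ‹Flat T.hom›
  haveI : LocallyOfFinitePresentation (fst H T).left :=
    MorphismProperty.of_isPullback (IsPullback.of_hasPullback H.hom T.hom).flip ‹LocallyOfFinitePresentation T.hom›
  obtain ⟨W, z, hW, hz, hzt⟩ := exists_translate u P V hV c σ t ht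
  haveI : Flat (W.ι ≫ (u ▷ T).left) := (hP _ hW).1
  haveI : LocallyOfFinitePresentation (W.ι ≫ (u ▷ T).left) := (hP _ hW).2
  obtain ⟨W₁, hle, hs, hpts⟩ := exists_image T W
  haveI := hs
  have ha : ((G ⊗ T).left.homOfLE hle ≫ (fst G T).left ∣_ W₁) ≫ W₁.ι ≫ u.left =
      (W.ι ≫ (u ▷ T).left) ≫ (fst H T).left := by
    rw [Category.assoc, morphismRestrict_ι_assoc, Scheme.homOfLE_ι_assoc, (isPullback_whisker u T).w, Category.assoc]
  let a := (G ⊗ T).left.homOfLE hle ≫ (fst G T).left ∣_ W₁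
  haveI : Flat a := inferInstanceAs (Flat (_ ≫ _))
  haveI : LocallyOfFinitePresentation a := inferInstanceAs (LocallyOfFinitePresentation (_ ≫ _))
  haveI : Surjective a := hs
  haveI : Flat (a ≫ W₁.ι ≫ u.left) := by rw [ha]; infer_instance
  refine ⟨W₁, W, hzt ▸ hle hz, Groth.Agent.FlatLocal.flat_of_comp a _,
    Groth.Agent.AlgSpLib.lfp_of_comp_fppf a _ (by rw [ha]; infer_instance), hW, fun x => ?_⟩
  obtain ⟨z', hz', hx⟩ := hpts x.1 x.2
  refine ⟨⟨z', show (fst G T).left z' ∈ W₁ from hx ▸ x.2⟩, Subtype.ext ?_, hz'⟩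
  rw [← Scheme.Opens.ι_apply, ← Scheme.Hom.comp_apply, morphismRestrict_ι]
  exact hx

theorem exists_smooth_translate (V : G.left.Opens) (hV : Smooth (V.ι ≫ u.left))
    {T : Over S} [Flat T.hom] [LocallyOfFinitePresentation T.hom] (c σ : T ⟶ G) (t : T.left) (ht : σ.left t ∈ V) :
    ∃ W₁ : G.left.Opens, (c * σ).left t ∈ W₁ ∧ Smooth (W₁.ι ≫ u.left) := by
  obtain ⟨W₁, W, hpt, hfl, hfp, hW, hpts⟩ :=
    exists_flatFP_translate u @Smooth (fun _ _ _ h => by haveI := h; exact ⟨inferInstance, inferInstance⟩) V hV c σ t ht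
  haveI := hfl
  haveI := hfp
  refine ⟨W₁, hpt, ?_⟩
  let W₂ := (fst G T).left ⁻¹ᵁ W₁
  have sq : IsPullback ((fst G T).left ∣_ W₁) (W₂.ι ≫ (u ▷ T).left) (W₁.ι ≫ u.left) (fst H T).left :=
    (isPullback_morphismRestrict (fst G T).left W₁).paste_vert (isPullback_whisker u T)
  haveI : Smooth ((W₂.ι ⁻¹ᵁ W).ι ≫ W₂.ι ≫ (u ▷ T).left) := by
    rw [← morphismRestrict_ι_assoc]
    exact MorphismProperty.comp_mem _ _ _ (inferInstanceAs (Smooth (W₂.ι ∣_ W))) hW
  rw [← Scheme.Hom.smoothLocus_eq_top_iff]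
  refine top_unique fun x _ => ?_
  obtain ⟨z, hzx, hzW⟩ := hpts x
  subst hzx
  exact Groth.Agent.SmoothLib.formallySmooth_stalkMap_of_baseChange (W₁.ι ≫ u.left) (fst H T).left sq z
    (Flat.stalkMap _ _) (Groth.Agent.SmoothLib.formallySmooth_stalkMap_of_nhd (U := W₂.ι ⁻¹ᵁ W) _ hzW)

theorem exists_etale_translate (V : G.left.Opens) (hV : Etale (V.ι ≫ u.left))
    {T : Over S} [Flat T.hom] [LocallyOfFinitePresentation T.hom] (c σ : T ⟶ G) (t : T.left) (ht : σ.left t ∈ V) :
    ∃ W₁ : G.left.Opens, (c * σ).left t ∈ W₁ ∧ Etale (W₁.ι ≫ u.left) := by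
  obtain ⟨W₁, W, hpt, hfl, hfp, hW, hpts⟩ :=
    exists_flatFP_translate u @Etale (fun _ _ _ h => by haveI := h; exact ⟨inferInstance, inferInstance⟩) V hV c σ t ht
  haveI := hfl
  haveI := hfp
  refine ⟨W₁, hpt, ?_⟩
  let W₂ := (fst G T).left ⁻¹ᵁ W₁
  have sq : IsPullback ((fst G T).left ∣_ W₁) (W₂.ι ≫ (u ▷ T).left) (W₁.ι ≫ u.left) (fst H T).left :=
    (isPullback_morphismRestrict (fst G T).left W₁).paste_vert (isPullback_whisker u T)
  haveI : Etale ((W₂.ι ⁻¹ᵁ W).ι ≫ W₂.ι ≫ (u ▷ T).left) := by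
    rw [← morphismRestrict_ι_assoc]
    exact MorphismProperty.comp_mem _ _ _ (inferInstanceAs (Etale (W₂.ι ∣_ W))) hW
  haveI : FormallyUnramified (W₁.ι ≫ u.left) := by
    refine (Groth.Agent.FlatLocal.formallyUnramified_iff_stalkMap _).2 fun x => ?_
    obtain ⟨z, hzx, hzW⟩ := hpts x
    refine (Groth.Agent.FlatLocal.formallyUnramified_nhd_iff _ x).1 ?_
    have hz : z ∈ Groth.Agent.EGA43.Cons.unramLocus (W₂.ι ≫ (u ▷ T).left) :=
      ⟨W₂.ι ⁻¹ᵁ W, hzW, inferInstance⟩
    rw [Groth.Agent.EGA43.Cons.unramLocus_isPullback sq] at hz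
    have hz' : ((fst G T).left ∣_ W₁) z ∈ Groth.Agent.EGA43.Cons.unramLocus (W₁.ι ≫ u.left) := hz
    rw [hzx] at hz'
    exact hz'
  exact Etale.iff_flat_and_formallyUnramified.2 ⟨inferInstance, inferInstance, inferInstance⟩

end Groth.Agent.SGA3UnitSec
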