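import Groth.Agent.SGA3UnitSec.KernelPair
import Groth.Agent.AlgGrpLib.KernelGrp
import Mathlib.AlgebraicGeometry.Morphisms.LocalFlatDescent

/-! Kernels under base change; the slice of the kernel pair through a point. -/

set_option autoImplicit false
set_option backward.isDefEq.respectTransparency.types false
set_option linter.style.haveILetI false
universe u

open CategoryTheory Limits MonoidalCategory CartesianMonoidalCategory MonObj GrpObj AlgebraicGeometry
open scoped CategoryTheory.Obj

namespace Groth.Agent.SGA3UnitSec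

variable {S : Scheme.{u}}

/-- Every homomorphism has a kernel group. -/
theorem exists_kernel {G H : Over S} [GrpObj G] [GrpObj H] (u : G ⟶ H) [IsMonHom u] :
    ∃ (K : Over S) (_ : GrpObj K) (i : K ⟶ G) (_ : IsMonHom i), AlgGrp.IsKernel i u := by
  have hk : AlgGrp.IsKernel (pullback.fst u η[H]) u := by
    unfold AlgGrp.IsKernel
    rw [toUnit_unique (toUnit _) (pullback.snd u η[H])]
    exact IsPullback.of_hasPullback u η[H]
  obtain ⟨g, hg⟩ := Groth.Agent.AlgGrpLib.exists_grpObj_kernel u _ hk
  exact ⟨_, g, _, hg, hk⟩

/-- Base change preserves kernels. -/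
theorem isKernel_pullback {G H K : Over S} [GrpObj H] {u : G ⟶ H} {i : K ⟶ G} (hK : AlgGrp.IsKernel i u)
    {S' : Scheme.{u}} (f : S' ⟶ S) :
    AlgGrp.IsKernel ((Over.pullback f).map i) ((Over.pullback f).map u) := by
  have sq := hK.map (Over.pullback f)
  unfold AlgGrp.IsKernel
  exact sq.of_iso (Iso.refl _) (Iso.refl _) (Functor.Monoidal.εIso (Over.pullback f)).symm (Iso.refl _)
    (by simp) (toUnit_unique _ _) (by simp) (by simp [Functor.obj.η_def])

/-- A property of the fibre of a homomorphism passes to the fibre of the kernel. -/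
theorem fibre_kernel_of_fibre_hom (P : MorphismProperty Scheme.{u}) [P.IsStableUnderBaseChange] [P.RespectsIso]
    {G H K : Over S} [GrpObj H] {u : G ⟶ H} {i : K ⟶ G} (hK : AlgGrp.IsKernel i u) (s : S)
    (h : P ((Over.pullback (S.fromSpecResidueField s)).map u).left) : P (K.hom.fiberToSpecResidueField s) := by
  have sq := (IsPullback.map (Over.pullback (S.fromSpecResidueField s)) hK).map (Over.forget _)
  have h1 : P ((Over.pullback (S.fromSpecResidueField s)).map (toUnit K)).left :=
    MorphismProperty.of_isPullback sq h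
  haveI : IsIso (pullback.snd (𝟙_ (Over S)).hom (S.fromSpecResidueField s)) := by
    change IsIso (pullback.snd (𝟙 S) (S.fromSpecResidueField s)); infer_instance
  have e : K.hom.fiberToSpecResidueField s = ((Over.pullback (S.fromSpecResidueField s)).map (toUnit K)).left ≫
      pullback.snd (𝟙_ (Over S)).hom (S.fromSpecResidueField s) :=
    (Over.w ((Over.pullback (S.fromSpecResidueField s)).map (toUnit K))).symm
  rw [e]
  exact (MorphismProperty.cancel_right_of_respectsIso P _ _).2 h1

/-- A property of `u` over an open of the base passes to the fibres over that open. -/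
theorem fibre_hom_of_restrict (P : MorphismProperty Scheme.{u}) [P.IsStableUnderBaseChange]
    {G H : Over S} (u : G ⟶ H) (U : S.Opens) (h : P ((G.hom ⁻¹ᵁ U).ι ≫ u.left)) (s : S) (hs : s ∈ U) :
    P ((Over.pullback (S.fromSpecResidueField s)).map u).left := by
  have hr : Set.range (pullback.fst G.hom (S.fromSpecResidueField s)) ⊆ Set.range (G.hom ⁻¹ᵁ U).ι := by
    rw [Scheme.Opens.range_ι]
    rintro _ ⟨z, rfl⟩
    have : G.hom (pullback.fst G.hom (S.fromSpecResidueField s) z) ∈ Set.range (S.fromSpecResidueField s) :=
      ⟨pullback.snd G.hom (S.fromSpecResidueField s) z, by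
        rw [← Scheme.Hom.comp_apply, ← Scheme.Hom.comp_apply, pullback.condition]⟩
    rw [Scheme.range_fromSpecResidueField, Set.mem_singleton_iff] at this
    show G.hom _ ∈ U
    rw [this]; exact hs
  let l := IsOpenImmersion.lift (G.hom ⁻¹ᵁ U).ι (pullback.fst G.hom (S.fromSpecResidueField s)) hr
  have hl : l ≫ (G.hom ⁻¹ᵁ U).ι = pullback.fst G.hom (S.fromSpecResidueField s) := IsOpenImmersion.lift_fac _ _ _
  have top : IsPullback l (𝟙 _) (G.hom ⁻¹ᵁ U).ι (pullback.fst G.hom (S.fromSpecResidueField s)) :=
    IsPullback.of_vert_isIso_mono ⟨by rw [hl, Category.id_comp]⟩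
  have sq := top.paste_vert (isPullback_map_left (S.fromSpecResidueField s) u)
  have h2 := MorphismProperty.of_isPullback sq h
  rw [Category.id_comp] at h2
  exact h2

variable {G H K : Over S} [GrpObj G] [GrpObj H] [GrpObj K]
  (u : G ⟶ H) [IsMonHom u] {i : K ⟶ G} [IsMonHom i] (hK : AlgGrp.IsKernel i u)

include hK in
/-- Through a point of an open `W` where the diagonal of `u` is open, the kernel has open unit section. -/
theorem isOpenImmersion_unit_pullback (W : G.left.Opens)
    (hW : IsOpenImmersion (W.ι ≫ pullback.diagonal u.left)) {T : Scheme.{u}} (a' : T ⟶ W) :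
    IsOpenImmersion η[(Over.pullback ((a' ≫ W.ι) ≫ G.hom)).obj K].left := by
  let a := a' ≫ W.ι
  let b := a ≫ G.hom
  have sqP : IsPullback (pullback.fst u u).left (δ u hK).left G.hom K.hom :=
    (isPullback_fst u hK).map (Over.forget S)
  let j : pullback K.hom b ⟶ (pullback u u).left :=
    sqP.lift (pullback.snd K.hom b ≫ a) (pullback.fst K.hom b) (by
      rw [Category.assoc]; exact pullback.condition.symm)
  have hj1 : j ≫ (pullback.fst u u).left = pullback.snd K.hom b ≫ a := sqP.lift_fst _ _ _
  have hj2 : j ≫ (δ u hK).left = pullback.fst K.hom b := sqP.lift_snd _ _ _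
  have outer : IsPullback (j ≫ (δ u hK).left) (pullback.snd K.hom b) K.hom (a ≫ G.hom) := by
    rw [hj2]; exact IsPullback.of_hasPullback _ _
  have sqj : IsPullback j (pullback.snd K.hom b) (pullback.fst u u).left a :=
    IsPullback.of_right outer hj1 sqP.flip
  let σ : T ⟶ pullback K.hom b := η[(Over.pullback b).obj K].left
  have hσ2 : σ ≫ pullback.snd K.hom b = 𝟙 T := Over.w η[(Over.pullback b).obj K]
  have hσ1 : σ ≫ pullback.fst K.hom b = b ≫ η[K].left := by
    simp only [σ, Functor.obj.η_def, Over.comp_left, Over.ε_pullback_left, Category.assoc, IsIso.inv_comp_eq]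
    rw [show ((Over.pullback b).map η[K]).left ≫ pullback.fst K.hom b = pullback.fst _ b ≫ η[K].left from
      (isPullback_map_left b η[K]).w.symm, ← Category.assoc]
    congr 1
    refine (Category.comp_id _).symm.trans ?_
    exact pullback.condition
  have sqd : IsPullback (pullback.diagonal u).left G.hom (δ u hK).left η[K].left :=
    (isPullback_diag u hK).map (Over.forget S)
  have hcomm : σ ≫ j = a ≫ (pullback.diagonal u).left := by
    apply sqP.hom_ext
    · rw [Category.assoc, hj1, reassoc_of% hσ2, Category.assoc, ← Over.comp_left, pullback.diagonal_fst]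
      simp
    · simp only [Category.assoc, hj2, hσ1, sqd.w, b]
  have hd : (pullback.diagonal u).left ≫ (pullback.fst u u).left = 𝟙 _ := by
    rw [← Over.comp_left, pullback.diagonal_fst, Over.id_left]
  have sqσ : IsPullback a σ (pullback.diagonal u).left j := by
    refine IsPullback.of_bot ?_ hcomm.symm sqj
    rw [hσ2, hd]
    exact IsPullback.of_vert_isIso ⟨by simp⟩
  have top : IsPullback a' (𝟙 T) W.ι a := IsPullback.of_vert_isIso_mono ⟨by simp [a]⟩
  have sq := top.paste_vert sqσ
  rw [Category.id_comp] at sq
  haveI : IsOpenImmersion (W.ι ≫ (pullback.diagonal u).left) := by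
    rw [diagonal_eq, ← Category.assoc] at hW
    exact (MorphismProperty.cancel_right_of_respectsIso @IsOpenImmersion _ _).1 hW
  exact MorphismProperty.of_isPullback sq inferInstance

end Groth.Agent.SGA3UnitSec
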