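import Groth.Agent.SGA3UnitSec.Lqf
import Groth.Agent.SGA3UnitSec.BaseChange
import Mathlib.AlgebraicGeometry.ZariskisMainTheorem

/-! The locus where a homomorphism of group schemes is locally quasi-finite. -/

set_option autoImplicit false
set_option backward.isDefEq.respectTransparency.types false
set_option linter.style.haveILetI false
universe u

open CategoryTheory Limits MonoidalCategory CartesianMonoidalCategory MonObj GrpObj AlgebraicGeometry
open scoped CategoryTheory.Obj

namespace Groth.Agent.SGA3UnitSec

theorem locallyQuasiFinite_of_forall {X Y : Scheme.{u}} (f : X ⟶ Y) [LocallyOfFiniteType f]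
    (h : ∀ x, f.QuasiFiniteAt x) : LocallyQuasiFinite f := by
  rw [locallyQuasiFinite_iff_isDiscrete_preimage_singleton]
  intro y
  rw [← f.range_fiberι y, ← Set.image_univ]
  haveI : DiscreteTopology (f.fiber y) := by
    rw [discreteTopology_iff_isOpen_singleton]
    have key : ∀ x, f x = y → ∀ w : f.fiber y, f.fiberι y w = x → IsOpen ({w} : Set (f.fiber y)) := by
      rintro x rfl w hw
      have : w = f.asFiber x := (f.fiberι _).isEmbedding.injective (by rw [hw, Scheme.Hom.fiberι_asFiber])
      rw [this]
      exact Scheme.Hom.quasiFiniteAt_iff_isOpen_singleton_asFiber.1 (h x)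
    intro w
    refine key _ ?_ w rfl
    have : f.fiberι y w ∈ f ⁻¹' {y} := by rw [← f.range_fiberι]; exact ⟨w, rfl⟩
    exact this
  exact (isDiscrete_univ_iff.2 inferInstance).image (f.fiberι y).isEmbedding.toIsInducing

/-- A group scheme over a point with isolated unit is discrete. -/
theorem discreteTopology_of_unit {T : Scheme.{u}} [Subsingleton T] (t : T) (X : Over T) [GrpObj X]
    (h : IsOpen ({(η[X].left : T ⟶ X.left) t} : Set X.left)) : DiscreteTopology X.left := by
  let d := (δ (toUnit X) (isKernel_toUnit (G := X))).left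
  have sq : IsPullback (pullback.diagonal (toUnit X)).left X.hom d η[X].left :=
    (isPullback_diag (toUnit X) (isKernel_toUnit (G := X))).map (Over.forget T)
  have hΔ : IsOpen (Set.range (pullback.diagonal (toUnit X)).left) := by
    have e : Set.range (pullback.diagonal (toUnit X)).left = d ⁻¹' Set.range η[X].left := by
      rw [← Set.image_univ, ← Set.image_univ (f := ⇑η[X].left),
        ← Scheme.image_preimage_eq_of_isPullback sq.flip Set.univ, Set.preimage_univ]
    have e2 : Set.range η[X].left = ({(η[X].left : T ⟶ X.left) t} : Set X.left) := by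
      refine Set.eq_singleton_iff_unique_mem.2 ⟨⟨t, rfl⟩, ?_⟩
      rintro _ ⟨z, rfl⟩
      exact congrArg _ (Subsingleton.elim (α := T) z t)
    rw [e, e2]
    exact h.preimage d.continuous
  have hΔ' : IsOpen (Set.range (pullback.diagonal X.hom)) := by
    show IsOpen (Set.range (pullback.diagonal (toUnit X).left))
    rw [diagonal_eq, Scheme.Hom.comp_base, TopCat.coe_comp, Set.range_comp]
    exact (eP (toUnit X)).hom.isOpenEmbedding.isOpenMap _ hΔ
  rw [discreteTopology_iff_isOpen_singleton]
  intro x
  let a := X.left.fromSpecResidueField x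
  let σ : Spec (X.left.residueField x) ⟶ pullback X.hom (a ≫ X.hom) := pullback.lift a (𝟙 _) (by simp)
  let m : pullback X.hom (a ≫ X.hom) ⟶ pullback X.hom X.hom :=
    pullback.lift (pullback.fst _ _) (pullback.snd _ _ ≫ a) (by rw [Category.assoc]; exact pullback.condition)
  have sqm : IsPullback m (pullback.snd X.hom (a ≫ X.hom)) (pullback.snd X.hom X.hom) a := by
    refine IsPullback.of_right ?_ (pullback.lift_snd _ _ _) (IsPullback.of_hasPullback X.hom X.hom)
    rw [pullback.lift_fst]
    exact IsPullback.of_hasPullback _ _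
  have sqσ : IsPullback a σ (pullback.diagonal X.hom) m := by
    refine IsPullback.of_bot ?_ ?_ sqm
    · rw [pullback.lift_snd, pullback.diagonal_snd]
      exact IsPullback.of_vert_isIso ⟨by simp⟩
    · apply pullback.hom_ext <;> simp only [σ, m, Category.assoc, pullback.diagonal_fst, pullback.diagonal_snd, pullback.lift_fst, pullback.lift_snd, pullback.lift_snd_assoc, Category.comp_id, Category.id_comp]
  have hσ : IsOpen (Set.range σ) := by
    have : Set.range σ = m ⁻¹' Set.range (pullback.diagonal X.hom) := by
      rw [← Set.image_univ, ← Set.image_univ (f := ⇑(pullback.diagonal X.hom)),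
        ← Scheme.image_preimage_eq_of_isPullback sqσ Set.univ, Set.preimage_univ]
    rw [this]
    exact hΔ'.preimage m.continuous
  haveI : UniversallyOpen (a ≫ X.hom) := Groth.Agent.Desc19.universallyOpen_of_subsingleton _
  have : ({x} : Set X.left) = (pullback.fst X.hom (a ≫ X.hom)) '' Set.range σ := by
    have e : σ ≫ pullback.fst X.hom (a ≫ X.hom) = a := pullback.lift_fst _ _ _
    rw [← Set.range_comp, ← TopCat.coe_comp, ← Scheme.Hom.comp_base, e]
    exact (Scheme.range_fromSpecResidueField x).symm
  rw [this]
  exact (pullback.fst X.hom (a ≫ X.hom)).isOpenMap _ hσ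

variable {S : Scheme.{u}} {G H K : Over S} [GrpObj G] [GrpObj H] [GrpObj K]
  (u : G ⟶ H) [IsMonHom u] {i : K ⟶ G} [IsMonHom i] (hK : AlgGrp.IsKernel i u)

omit [GrpObj K] in
/-- Quasi-finiteness of a group scheme at a point of the unit section makes that fibre discrete. -/
theorem discreteTopology_fiber_of_unit (K : Over S) [GrpObj K] [LocallyOfFiniteType K.hom] (s : S)
    (h : K.hom.QuasiFiniteAt ((η[K].left : S ⟶ K.left) s)) : DiscreteTopology (K.hom.fiber s) := by
  let ε : S ⟶ K.left := η[K].left
  have hεs : K.hom (ε s) = s := congrArg (fun q : S ⟶ S => q s) (show ε ≫ K.hom = 𝟙 S from Over.w η[K])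
  have h' := Scheme.Hom.quasiFiniteAt_iff_isOpen_singleton_asFiber.1 h
  have key : ∀ y, K.hom (ε s) = y → ∀ w : K.hom.fiber y, K.hom.fiberι y w = ε s → IsOpen ({w} : Set (K.hom.fiber y)) := by
    rintro y rfl w hw
    have : w = K.hom.asFiber (ε s) := (K.hom.fiberι _).isEmbedding.injective (by rw [hw, Scheme.Hom.fiberι_asFiber])
    rw [this]
    exact h'
  let t : Spec (S.residueField s) := IsLocalRing.closedPoint _
  refine discreteTopology_of_unit t ((Over.pullback (S.fromSpecResidueField s)).obj K) (key s hεs _ ?_)
  have e : η[(Over.pullback (S.fromSpecResidueField s)).obj K].left ≫ pullback.fst K.hom (S.fromSpecResidueField s) =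
      S.fromSpecResidueField s ≫ ε := by
    simp only [Functor.obj.η_def, Over.comp_left, Over.ε_pullback_left, Category.assoc, IsIso.inv_comp_eq]
    rw [show ((Over.pullback (S.fromSpecResidueField s)).map η[K]).left ≫ pullback.fst K.hom (S.fromSpecResidueField s) =
        pullback.fst _ (S.fromSpecResidueField s) ≫ η[K].left from
      (isPullback_map_left (S.fromSpecResidueField s) η[K]).w.symm, ← Category.assoc]
    congr 1
    refine (Category.comp_id _).symm.trans ?_
    exact pullback.condition
  refine (congrArg (fun f : Spec (S.residueField s) ⟶ K.left => f t) e).trans ?_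
  show ε (S.fromSpecResidueField s t) = ε s
  rw [Scheme.fromSpecResidueField_apply]

include hK in
/-- The slice of the kernel pair through a point of `G` is a base change of `u`. -/
theorem exists_slice {T : Scheme.{u}} (a : T ⟶ G.left) :
    ∃ θ : pullback K.hom (a ≫ G.hom) ⟶ G.left,
      IsPullback θ (pullback.snd K.hom (a ≫ G.hom)) u.left (a ≫ u.left) ∧
      pullback.lift ((a ≫ G.hom) ≫ (η[K].left : S ⟶ K.left)) (𝟙 T)
        (by rw [Category.assoc, show (η[K].left : S ⟶ K.left) ≫ K.hom = 𝟙 S from Over.w η[K]]; simp) ≫ θ = a := by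
  have sqP : IsPullback (pullback.fst u u).left (δ u hK).left G.hom K.hom :=
    (isPullback_fst u hK).map (Over.forget S)
  let j : pullback K.hom (a ≫ G.hom) ⟶ (pullback u u).left :=
    sqP.lift (pullback.snd K.hom (a ≫ G.hom) ≫ a) (pullback.fst K.hom (a ≫ G.hom)) (by
      rw [Category.assoc]; exact pullback.condition.symm)
  have hj1 : j ≫ (pullback.fst u u).left = pullback.snd K.hom (a ≫ G.hom) ≫ a := sqP.lift_fst _ _ _
  have hj2 : j ≫ (δ u hK).left = pullback.fst K.hom (a ≫ G.hom) := sqP.lift_snd _ _ _
  have outer : IsPullback (j ≫ (δ u hK).left) (pullback.snd K.hom (a ≫ G.hom)) K.hom (a ≫ G.hom) := by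
    rw [hj2]; exact IsPullback.of_hasPullback _ _
  have sqj : IsPullback j (pullback.snd K.hom (a ≫ G.hom)) (pullback.fst u u).left a :=
    IsPullback.of_right outer hj1 sqP.flip
  have sqk : IsPullback (pullback.snd u u).left (pullback.fst u u).left u.left u.left :=
    ((IsPullback.of_hasPullback u u).map (Over.forget S)).flip
  refine ⟨j ≫ (pullback.snd u u).left, sqj.paste_horiz sqk, ?_⟩
  have sqd : IsPullback (pullback.diagonal u).left G.hom (δ u hK).left η[K].left :=
    (isPullback_diag u hK).map (Over.forget S)
  have hd1 : (pullback.diagonal u).left ≫ (pullback.fst u u).left = 𝟙 _ := by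
    rw [← Over.comp_left, pullback.diagonal_fst, Over.id_left]
  have hd2 : (pullback.diagonal u).left ≫ (pullback.snd u u).left = 𝟙 _ := by
    rw [← Over.comp_left, pullback.diagonal_snd, Over.id_left]
  rw [← Category.assoc]
  trans (a ≫ (pullback.diagonal u).left) ≫ (pullback.snd u u).left
  · congr 1
    apply sqP.hom_ext
    · simp only [Category.assoc, hj1, hd1, pullback.lift_snd_assoc, Category.id_comp]
      exact (Category.comp_id _).symm
    · simp only [Category.assoc, hj2, pullback.lift_fst, sqd.w]
  · rw [Category.assoc, hd2]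
    exact Category.comp_id _

include hK in
/-- Over an open of the base with discrete kernel fibres, `u` is locally quasi-finite. -/
theorem locallyQuasiFinite_restrict [LocallyOfFiniteType u.left] (U : S.Opens)
    (h : ∀ s ∈ U, DiscreteTopology (K.hom.fiber s)) : LocallyQuasiFinite ((G.hom ⁻¹ᵁ U).ι ≫ u.left) := by
  haveI : LocallyOfFiniteType K.hom := MorphismProperty.of_isPullback (isPullback_kernel u hK) inferInstance
  haveI : LocallyOfFiniteType ((Over.pullback U.ι).map u).left :=
    MorphismProperty.of_isPullback (isPullback_map_left U.ι u) inferInstance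
  have hKU : LocallyQuasiFinite ((Over.pullback U.ι).obj K).hom := by
    refine locallyQuasiFinite_of_forall (pullback.snd K.hom U.ι) fun z => ?_
    have e : pullback.snd K.hom U.ι ≫ U.ι = pullback.fst K.hom U.ι ≫ K.hom := pullback.condition.symm
    rw [← Scheme.Hom.quasiFiniteAt_comp_iff (g := U.ι), e, Scheme.Hom.quasiFiniteAt_comp_iff_of_isOpenImmersion,
      Scheme.Hom.quasiFiniteAt_iff_isOpen_singleton_asFiber]
    have hm : K.hom (pullback.fst K.hom U.ι z) ∈ U := by
      rw [← Scheme.Hom.comp_apply, ← e, Scheme.Hom.comp_apply]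
      exact (pullback.snd K.hom U.ι z).2
    haveI := h _ hm
    exact isOpen_discrete _
  have hu := locallyQuasiFinite_of_kernel _ (isKernel_pullback hK U.ι) hKU
  haveI : LocallyQuasiFinite (pullback.fst G.hom U.ι ≫ u.left) := by
    rw [(isPullback_map_left U.ι u).w]
    exact MorphismProperty.comp_mem _ _ _ hu inferInstance
  have hr : Set.range (G.hom ⁻¹ᵁ U).ι = Set.range (pullback.fst G.hom U.ι) := by
    rw [Scheme.Opens.range_ι, Scheme.Pullback.range_fst, Scheme.Opens.range_ι]
    rfl
  rw [← IsOpenImmersion.isoOfRangeEq_hom_fac (G.hom ⁻¹ᵁ U).ι (pullback.fst G.hom U.ι) hr, Category.assoc]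
  infer_instance

end Groth.Agent.SGA3UnitSec
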