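import Mathlib.AlgebraicGeometry.Morphisms.QuasiFinite
import Groth.Agent.SGA3UnitSec.KernelPair
import Groth.Agent.Desc19.Topology

/-! A homomorphism is locally quasi-finite as soon as its kernel is. -/

set_option autoImplicit false
set_option backward.isDefEq.respectTransparency.types false
set_option linter.style.haveILetI false
universe u

open CategoryTheory Limits MonoidalCategory CartesianMonoidalCategory MonObj GrpObj AlgebraicGeometry

namespace Groth.Agent.SGA3UnitSec

/-- A morphism of finite type whose first projection from the self-product is locally quasi-finite,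
is locally quasi-finite. -/
theorem locallyQuasiFinite_of_pullback_fst {X Y : Scheme.{u}} (f : X ⟶ Y) [LocallyOfFiniteType f]
    (h : LocallyQuasiFinite (pullback.fst f f)) : LocallyQuasiFinite f := by
  rw [locallyQuasiFinite_iff_isDiscrete_preimage_singleton]
  intro y
  by_cases hy : ∃ x, f x = y
  · obtain ⟨x, rfl⟩ := hy
    let q := Spec.map (f.residueFieldMap x)
    let a := X.fromSpecResidueField x
    have hq : q ≫ Y.fromSpecResidueField (f x) = a ≫ f := by simp [q, a]
    let Z := pullback (f.fiberToSpecResidueField (f x)) q
    have sq : IsPullback (pullback.fst (f.fiberToSpecResidueField (f x)) q ≫ f.fiberι (f x))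
        (pullback.snd (f.fiberToSpecResidueField (f x)) q) f (a ≫ f) := by
      rw [← hq]
      exact (IsPullback.of_hasPullback _ q).paste_horiz (IsPullback.of_hasPullback f (Y.fromSpecResidueField (f x)))
    have sq' := IsPullback.of_right' sq (IsPullback.of_hasPullback f f).flip
    haveI : LocallyQuasiFinite (pullback.snd (f.fiberToSpecResidueField (f x)) q) :=
      MorphismProperty.of_isPullback sq' h
    haveI : DiscreteTopology Z := by
      rw [← isDiscrete_univ_iff]
      have := (pullback.snd (f.fiberToSpecResidueField (f x)) q).isDiscrete_preimage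
        (isDiscrete_univ_iff.2 (inferInstance : DiscreteTopology (Spec (X.residueField x))))
      rwa [Set.preimage_univ] at this
    haveI : UniversallyOpen q := Groth.Agent.Desc19.universallyOpen_of_subsingleton q
    haveI : Surjective q := ⟨fun z => ⟨IsLocalRing.closedPoint _, Subsingleton.elim _ _⟩⟩
    let p := pullback.fst (f.fiberToSpecResidueField (f x)) q
    have hp : IsOpenMap p := p.isOpenMap
    haveI : DiscreteTopology (f.fiber (f x)) := by
      rw [discreteTopology_iff_isOpen_singleton]
      intro w
      rw [← Set.image_preimage_eq {w} (Scheme.Hom.surjective p)]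
      exact hp _ (isOpen_discrete _)
    rw [← f.range_fiberι (f x), ← Set.image_univ]
    exact (isDiscrete_univ_iff.2 inferInstance).image (f.fiberι (f x)).isEmbedding.toIsInducing
  · have : f ⁻¹' {y} = ∅ := Set.eq_empty_of_forall_notMem fun x hx => hy ⟨x, hx⟩
    rw [this]
    exact isDiscrete_iff_discreteTopology.2 inferInstance

variable {S : Scheme.{u}} {G H K : Over S} [GrpObj G] [GrpObj H] [GrpObj K]
  (u : G ⟶ H) [IsMonHom u] {i : K ⟶ G} [IsMonHom i] (hK : AlgGrp.IsKernel i u)

include hK in
theorem locallyQuasiFinite_of_kernel [LocallyOfFiniteType u.left] (h : LocallyQuasiFinite K.hom) :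
    LocallyQuasiFinite u.left := by
  refine locallyQuasiFinite_of_pullback_fst u.left ?_
  have sq : IsPullback (pullback.fst u u).left (δ u hK).left G.hom K.hom :=
    (isPullback_fst u hK).map (Over.forget S)
  have h1 : LocallyQuasiFinite (pullback.fst u u).left := MorphismProperty.of_isPullback sq.flip h
  rw [← (eP u).inv_hom_id_assoc (pullback.fst u.left u.left), eP_fst]
  exact MorphismProperty.comp_mem _ _ _ inferInstance h1

end Groth.Agent.SGA3UnitSec
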