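import Groth.Agent.FlatLocal.FibreCrit
import Groth.Agent.FlatLocal.DiagLocal
import Mathlib.AlgebraicGeometry.Fiber

/-! Unramifiedness along a fibre spreads to a neighbourhood; sections along closed maps. -/

set_option autoImplicit false
set_option backward.isDefEq.respectTransparency.types false
set_option linter.style.haveILetI false
universe u

open CategoryTheory Limits AlgebraicGeometry

namespace Groth.Agent.SGA3UnitSec

variable {X S : Scheme.{u}}

/-- An unramified fibre gives unramified stalk maps along the fibre. -/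
theorem formallyUnramified_stalkMap_of_fibre (f : X ⟶ S) [LocallyOfFiniteType f] (x : X)
    (h : FormallyUnramified (f.fiberToSpecResidueField (f x))) : (f.stalkMap x).hom.FormallyUnramified := by
  haveI : LocallyOfFiniteType (f.fiberToSpecResidueField (f x)) :=
    MorphismProperty.pullback_snd _ _ inferInstance
  obtain ⟨x', hx'⟩ : ∃ x', f.fiberι (f x) x' = x := ⟨f.asFiber x, f.fiberι_asFiber x⟩
  obtain ⟨hi, hker⟩ := Props12.stalkMap_fiberι f (f x) x'
  have := (FlatLocal.formallyUnramified_stalkMap_iff_of_square f (f.fiberToSpecResidueField (f x))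
    (f.fiberι (f x)) (S.fromSpecResidueField (f x)) (f.fiber_fac (f x)) x' hi
    (Scheme.Hom.stalkMap_surjective _ _) hker.le).2 (FormallyUnramified.stalkMap _ x')
  rwa [hx'] at this

theorem formallyUnramified_fibre_open (π : X ⟶ S) (s : S) (W : X.Opens)
    (h : FormallyUnramified (π.fiberToSpecResidueField s)) :
    FormallyUnramified ((W.ι ≫ π).fiberToSpecResidueField s) := by
  let m : (W.ι ≫ π).fiber s ⟶ π.fiber s :=
    pullback.map (W.ι ≫ π) (S.fromSpecResidueField s) π (S.fromSpecResidueField s) W.ι (𝟙 _) (𝟙 _) (by simp) (by simp)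
  haveI : IsOpenImmersion m :=
    MorphismProperty.pullbackMap (P := @IsOpenImmersion) (i₁ := W.ι) (i₂ := 𝟙 _) inferInstance inferInstance
      (by simp) (by simp)
  have e : (W.ι ≫ π).fiberToSpecResidueField s = m ≫ π.fiberToSpecResidueField s := by
    simp only [m, Scheme.Hom.fiberToSpecResidueField]
    exact ((pullback.lift_snd _ _ _).trans (Category.comp_id _)).symm
  rw [e]
  exact MorphismProperty.comp_mem _ _ _ (inferInstanceAs (FormallyUnramified m)) h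

set_option maxHeartbeats 400000 in
/-- The unramified points of the fibres in a set of base points form part of an unramified open. -/
theorem exists_unramified_open (π : X ⟶ S) (W : X.Opens) [LocallyOfFiniteType (W.ι ≫ π)] (T : Set S)
    (h : ∀ s ∈ T, FormallyUnramified (π.fiberToSpecResidueField s)) :
    ∃ V : X.Opens, V ≤ W ∧ (∀ x ∈ W, π x ∈ T → x ∈ V) ∧ FormallyUnramified (V.ι ≫ π) ∧
      LocallyOfFiniteType (V.ι ≫ π) := by
  have key : ∀ x : W, π x.1 ∈ T → ∃ U : (W : Scheme.{u}).Opens, x ∈ U ∧ FormallyUnramified (U.ι ≫ W.ι ≫ π) := by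
    intro x hx
    have hT : (W.ι ≫ π) x ∈ T := by rw [Scheme.Hom.comp_apply]; exact hx
    have h1 : FormallyUnramified ((W.ι ≫ π).fiberToSpecResidueField ((W.ι ≫ π) x)) :=
      formallyUnramified_fibre_open π _ W (h _ hT)
    have h2 := formallyUnramified_stalkMap_of_fibre (W.ι ≫ π) x h1
    exact (FlatLocal.formallyUnramified_nhd_iff (W.ι ≫ π) x).2 h2
  choose U hxU hU using key
  let ι' := {x : W // π x.1 ∈ T}
  let V' : (W : Scheme.{u}).Opens := ⨆ x : ι', U x.1 x.2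
  haveI : FormallyUnramified (V'.ι ≫ W.ι ≫ π) := by
    refine IsZariskiLocalAtSource.of_iSup_eq_top (P := @FormallyUnramified) (fun x : ι' => V'.ι ⁻¹ᵁ U x.1 x.2) ?_ fun x => ?_
    · rw [← Scheme.Hom.preimage_iSup]
      exact V'.ι_preimage_self
    · have hle : U x.1 x.2 ≤ V' := le_iSup (fun x : ι' => U x.1 x.2) x
      haveI := hU x.1 x.2
      have : (V'.ι ⁻¹ᵁ U x.1 x.2).ι ≫ V'.ι = (V'.ι ∣_ U x.1 x.2) ≫ (U x.1 x.2).ι := (morphismRestrict_ι _ _).symm
      rw [reassoc_of% this]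
      exact MorphismProperty.comp_mem _ _ _ (inferInstanceAs (FormallyUnramified (V'.ι ∣_ U x.1 x.2))) (hU x.1 x.2)
  refine ⟨W.ι ''ᵁ V', ?_, fun x hx hT => ?_, ?_, ?_⟩
  · rintro _ ⟨y, -, rfl⟩
    exact y.2
  · exact ⟨⟨x, hx⟩, TopologicalSpace.Opens.mem_iSup.2 ⟨⟨⟨x, hx⟩, hT⟩, hxU _ _⟩, rfl⟩
  · rw [← Scheme.Hom.isoImage_inv_ι_assoc W.ι V']
    exact MorphismProperty.comp_mem _ _ _ (inferInstanceAs (FormallyUnramified (W.ι.isoImage V').inv)) ‹_›
  · rw [← Scheme.Hom.isoImage_inv_ι_assoc W.ι V']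
    infer_instance

theorem exists_open_preimage_subset (π : X ⟶ S) (hcl : IsClosedMap π.base) (s : S) (W : X.Opens)
    (h : ∀ x, π x = s → x ∈ W) : ∃ U : S.Opens, s ∈ U ∧ π ⁻¹ᵁ U ≤ W := by
  refine ⟨⟨(π.base '' (W : Set X)ᶜ)ᶜ, (hcl _ W.isOpen.isClosed_compl).isOpen_compl⟩, ?_, fun x hx => ?_⟩
  · rintro ⟨x, hx, e⟩
    exact hx (h x e)
  · by_contra hxW
    exact hx ⟨x, hxW, rfl⟩

/-- A closed map with a section whose fibre at `s` is trivial is an isomorphism near `s`. -/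
theorem exists_isIso_restrict (π : X ⟶ S) (ε : S ⟶ X) (hε : ε ≫ π = 𝟙 S) (hcl : IsClosedMap π.base) (s : S)
    (hfp : ∃ W : X.Opens, ε.base s ∈ W ∧ LocallyOfFiniteType (W.ι ≫ π))
    (hs : IsIso (π.fiberToSpecResidueField s)) : ∃ U : S.Opens, s ∈ U ∧ IsIso (π ∣_ U) := by
  obtain ⟨W, hW, hWft⟩ := hfp
  haveI := hWft
  have hεs : π (ε s) = s := congrArg (fun q : S ⟶ S => q s) hε
  have huniq : ∀ x, π x = s → x = ε s := by
    intro x hx
    haveI : Subsingleton (π.fiber s) := (π.fiberToSpecResidueField s).homeomorph.injective.subsingleton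
    obtain ⟨a, ha⟩ : x ∈ Set.range (π.fiberι s) := by rw [Scheme.Hom.range_fiberι]; exact hx
    obtain ⟨b, hb⟩ : ε s ∈ Set.range (π.fiberι s) := by rw [Scheme.Hom.range_fiberι]; exact hεs
    rw [← ha, ← hb, Subsingleton.elim a b]
  obtain ⟨V, -, hV, hVu, hVft⟩ := exists_unramified_open π W {s} fun t ht => by
    rw [Set.mem_singleton_iff.1 ht]; infer_instance
  haveI := hVu
  haveI := hVft
  have hεV : ε s ∈ V := hV _ hW hεs
  let j := (ε ⁻¹ᵁ V).ι ≫ ε
  haveI : IsOpenImmersion j := FlatLocal.isOpenImmersion_ι_section π ε hε V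
  obtain ⟨U, hsU, hU⟩ := exists_open_preimage_subset π hcl s j.opensRange fun x hx => by
    rw [huniq x hx]
    exact ⟨⟨s, hεV⟩, rfl⟩
  refine ⟨U, hsU, ?_⟩
  have hle : U ≤ ε ⁻¹ᵁ (π ⁻¹ᵁ U) := by rw [← Scheme.Hom.comp_preimage, hε]; exact le_rfl
  let t : (U : Scheme.{u}) ⟶ (π ⁻¹ᵁ U : Scheme.{u}) := ε.resLE (π ⁻¹ᵁ U) U hle
  have hl : (π ⁻¹ᵁ U).ι ≫ π ≫ ε = (π ⁻¹ᵁ U).ι := by
    let l := IsOpenImmersion.lift j (π ⁻¹ᵁ U).ι (by rw [Scheme.Opens.range_ι]; exact hU)
    have hlj : l ≫ j = (π ⁻¹ᵁ U).ι := IsOpenImmersion.lift_fac _ _ _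
    calc (π ⁻¹ᵁ U).ι ≫ π ≫ ε = (l ≫ j) ≫ π ≫ ε := by rw [hlj]
      _ = l ≫ (ε ⁻¹ᵁ V).ι ≫ (ε ≫ π) ≫ ε := by simp [j]
      _ = l ≫ j := by rw [hε]; simp [j]
      _ = _ := hlj
  refine ⟨t, ?_, ?_⟩
  · rw [← cancel_mono (π ⁻¹ᵁ U).ι]
    simp [t, hl]
  · rw [← cancel_mono U.ι]
    simp [t, hε]

end Groth.Agent.SGA3UnitSec
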