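import Groth.Agent.SGA3UnitSec.Translate

/-! An open set stable under translations is an open subgroup. -/

set_option autoImplicit false
set_option backward.isDefEq.respectTransparency.types false
set_option linter.style.haveILetI false
universe u

open CategoryTheory Limits MonoidalCategory CartesianMonoidalCategory MonObj GrpObj AlgebraicGeometry

namespace Groth.Agent.SGA3UnitSec

/-- An open set stable under translations by points over good bases is a subgroup. -/
theorem subgroup_of_translate {S : Scheme.{u}} {G : Over S} [GrpObj G] (Q : MorphismProperty Scheme.{u})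
    [Q.IsStableUnderBaseChange] [Q.IsStableUnderComposition] (V : G.left.Opens) (hQV : Q (V.ι ≫ G.hom))
    (D : ∀ {T : Over S}, Q T.hom → ∀ (c σ : T ⟶ G) (t : T.left), σ.left t ∈ V → (c * σ).left t ∈ V) :
    (∀ g ∈ V, ∀ p : ↥(𝟙_ (Over S)).left, (𝟙_ (Over S)).hom.base p = G.hom.base g → η[G].left.base p ∈ V) ∧
    (∀ g ∈ V, ι[G].left.base g ∈ V) ∧
    (∀ z : ↥(G ⊗ G).left, (fst G G).left.base z ∈ V → (snd G G).left.base z ∈ V → μ[G].left.base z ∈ V) := by
  let A : Over S := Over.mk (V.ι ≫ G.hom)
  let incl : A ⟶ G := Over.homMk V.ι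
  refine ⟨fun g hg p hp => ?_, fun g hg => ?_, fun z h1 h2 => ?_⟩
  · have h := D (T := A) hQV incl⁻¹ incl ⟨g, hg⟩ hg
    rw [inv_mul_cancel, Hom.one_def, Over.comp_left, Scheme.Hom.comp_apply] at h
    refine Set.mem_of_eq_of_mem ?_ h
    congr 1
  · have h := D (T := A) hQV (incl⁻¹ * incl⁻¹) incl ⟨g, hg⟩ hg
    rw [_root_.mul_assoc, inv_mul_cancel, _root_.mul_one, Hom.inv_def, Over.comp_left, Scheme.Hom.comp_apply] at h
    exact h
  · have hQ2 : Q (A ⊗ A).hom :=
      Q.comp_mem _ _ (MorphismProperty.of_isPullback (IsPullback.of_hasPullback A.hom A.hom).flip hQV) hQV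
    obtain ⟨w, hw⟩ : z ∈ Set.range (incl ⊗ₘ incl).left := by
      rw [Over.tensorHom_left, Scheme.Pullback.range_map]
      refine ⟨?_, ?_⟩
      · show _ ∈ Set.range V.ι
        rw [Scheme.Opens.range_ι]
        exact h1
      · show _ ∈ Set.range V.ι
        rw [Scheme.Opens.range_ι]
        exact h2
    have hs : (snd A A ≫ incl).left w ∈ V := by
      rw [← tensorHom_snd incl incl, Over.comp_left, Scheme.Hom.comp_apply, hw]
      exact h2
    have h := D hQ2 (fst A A ≫ incl) (snd A A ≫ incl) w hs
    rw [← hw]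
    refine Set.mem_of_eq_of_mem ?_ h
    rw [Hom.mul_def, ← tensorHom_fst incl incl, ← tensorHom_snd incl incl, lift_comp_fst_snd,
      Over.comp_left, Scheme.Hom.comp_apply]

end Groth.Agent.SGA3UnitSec
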